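import Mathlib

/-!
Kreknin's and Kostrikin's theorems on Lie rings graded by a cyclic group of prime order with
vanishing zero component.
-/

set_option autoImplicit false

namespace Cfsg.Agent.FG72.LieGrad

open scoped Pointwise

variable {L : Type*} [AddCommGroup L]

/-- An alternating bracket satisfying the Jacobi identity. -/
structure IsLie (B : L →+ L →+ L) : Prop where
  anti : ∀ x y, B x y = -B y x
  jacobi : ∀ x y z, B x (B y z) = B (B x y) z + B y (B x z)

/-- A grading by `ZMod p` with vanishing zero component. -/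
structure IsGrad (B : L →+ L →+ L) {p : ℕ} (D : ZMod p → AddSubgroup L) : Prop where
  zero : D 0 = ⊥
  mul_mem : ∀ {a b x y}, x ∈ D a → y ∈ D b → B x y ∈ D (a + b)

variable (B : L →+ L →+ L) {p : ℕ}

/-- The derived series of a graded family. -/
def DS (D : ZMod p → AddSubgroup L) : ℕ → ZMod p → AddSubgroup L
  | 0 => D
  | n + 1 => fun k => AddSubgroup.closure
      {z | ∃ a b x y, x ∈ DS D n a ∧ y ∈ DS D n b ∧ a + b = k ∧ B x y = z}

/-- Words of a given number of brackets in given generators. -/
def W (S : ZMod p → Set L) : ℕ → ZMod p → Set L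
  | 0 => S
  | n + 1 => fun k => {z | ∃ i j x y, x ∈ S i ∧ y ∈ W S n j ∧ i + j = k ∧ B x y = z}

variable {B}

theorem closure_bracket_mem {S T : Set L} {U : AddSubgroup L}
    (h : ∀ x ∈ S, ∀ y ∈ T, B x y ∈ U) {x y : L} (hx : x ∈ AddSubgroup.closure S)
    (hy : y ∈ AddSubgroup.closure T) : B x y ∈ U := by
  have h1 : ∀ x ∈ S, ∀ y ∈ AddSubgroup.closure T, B x y ∈ U := fun x hx y hy =>
    (AddSubgroup.closure_le (U.comap (B x))).mpr (fun t ht => h x hx t ht) hy
  exact (AddSubgroup.closure_le (U.comap (B.flip y))).mpr (fun s hs => h1 s hs y hy) hx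

theorem bracket_word (hB : IsLie B) (S : ZMod p → Set L) :
    ∀ (a b : ℕ) (i j : ZMod p) (x y : L), x ∈ W B S a i → y ∈ W B S b j →
      B x y ∈ AddSubgroup.closure (W B S (a + b + 1) (i + j)) := by
  intro a
  induction a with
  | zero =>
    intro b i j x y hx hy
    rw [Nat.zero_add]
    exact AddSubgroup.subset_closure ⟨i, j, x, y, hx, hy, rfl, rfl⟩
  | succ a ih =>
    rintro b _ j _ z ⟨i₁, i₂, x, y, hx, hy, rfl, rfl⟩ hz
    have h := hB.jacobi x y z
    rw [← sub_eq_iff_eq_add] at h
    rw [← h]
    refine AddSubgroup.sub_mem _ ?_ ?_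
    · refine (AddSubgroup.closure_le ((AddSubgroup.closure _).comap (B x))).mpr ?_ (ih b i₂ j y z hy hz)
      intro w hw
      show B x w ∈ AddSubgroup.closure _
      refine AddSubgroup.subset_closure ?_
      rw [show a + 1 + b + 1 = (a + b + 1) + 1 by omega, add_assoc]
      exact ⟨i₁, i₂ + j, x, w, hx, hw, (add_assoc _ _ _).symm, rfl⟩
    · have hxz : B x z ∈ W B S (b + 1) (i₁ + j) := ⟨i₁, j, x, z, hx, hz, rfl, rfl⟩
      have := ih (b + 1) i₂ (i₁ + j) y _ hy hxz
      rwa [show a + (b + 1) + 1 = a + 1 + b + 1 by omega,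
        show i₂ + (i₁ + j) = i₁ + i₂ + j by ring] at this

theorem word_mem {D : ZMod p → AddSubgroup L} (hD : IsGrad B D) {S : ZMod p → Set L}
    (hS : ∀ k, S k ⊆ D k) : ∀ (m : ℕ) (k : ZMod p), W B S m k ⊆ D k := by
  intro m
  induction m with
  | zero => exact hS
  | succ m ih =>
    rintro _ _ ⟨i, j, x, y, hx, hy, rfl, rfl⟩
    exact hD.mul_mem (hS i hx) (ih j hy)

theorem DS_succ_le {D : ZMod p → AddSubgroup L} (hD : IsGrad B D) :
    ∀ (n : ℕ) (k : ZMod p), DS B D (n + 1) k ≤ DS B D n k := by
  intro n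
  induction n with
  | zero =>
    intro k
    refine (AddSubgroup.closure_le _).mpr ?_
    rintro _ ⟨a, b, x, y, hx, hy, rfl, rfl⟩
    exact hD.mul_mem hx hy
  | succ n ih =>
    intro k
    refine (AddSubgroup.closure_le _).mpr ?_
    rintro _ ⟨a, b, x, y, hx, hy, rfl, rfl⟩
    exact AddSubgroup.subset_closure ⟨a, b, x, y, ih a hx, ih b hy, rfl, rfl⟩

theorem DS_le {D : ZMod p → AddSubgroup L} (hD : IsGrad B D) :
    ∀ (n : ℕ) (k : ZMod p), DS B D n k ≤ D k := by
  intro n
  induction n with
  | zero => exact fun k => le_rfl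
  | succ n ih => exact fun k => (DS_succ_le hD n k).trans (ih k)

theorem DS_isGrad {D : ZMod p → AddSubgroup L} (hD : IsGrad B D) (n : ℕ) :
    IsGrad B (DS B D n) where
  zero := le_bot_iff.mp ((DS_le hD n 0).trans hD.zero.le)
  mul_mem hx hy := DS_succ_le hD n _ (AddSubgroup.subset_closure ⟨_, _, _, _, hx, hy, rfl, rfl⟩)

theorem DS_add (D : ZMod p → AddSubgroup L) (a : ℕ) :
    ∀ b, DS B (DS B D a) b = DS B D (a + b) := by
  intro b
  induction b with
  | zero => rfl
  | succ b ih =>
    rw [← add_assoc]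
    simp only [DS, ih]

theorem DS_ideal (hB : IsLie B) {D : ZMod p → AddSubgroup L} (hD : IsGrad B D) :
    ∀ (n : ℕ) {a b : ZMod p} {x y : L}, x ∈ D a → y ∈ DS B D n b → B x y ∈ DS B D n (a + b) := by
  intro n
  induction n with
  | zero => exact fun hx hy => hD.mul_mem hx hy
  | succ n ih =>
    intro a b x y hx hy
    refine (AddSubgroup.closure_le ((DS B D (n + 1) (a + b)).comap (B x))).mpr ?_ hy
    rintro _ ⟨i, j, u, v, hu, hv, rfl, rfl⟩
    show B x (B u v) ∈ DS B D (n + 1) (a + (i + j))
    rw [hB.jacobi]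
    refine AddSubgroup.add_mem _
      (AddSubgroup.subset_closure ⟨a + i, j, _, v, ih hx hu, hv, by ring, rfl⟩)
      (AddSubgroup.subset_closure ⟨i, a + j, u, _, hu, ih hx hv, by ring, rfl⟩)

/-- The subring generated by the components of large degree. -/
def H (B : L →+ L →+ L) (D : ZMod p → AddSubgroup L) (s : ℕ) (k : ZMod p) : AddSubgroup L :=
  AddSubgroup.closure (⋃ m, W B (fun i => {x | s < i.val ∧ x ∈ D i}) m k)

theorem H_mono {D E : ZMod p → AddSubgroup L} {s t : ℕ} (hB : IsLie B)
    (h : ∀ i, s < i.val → ∀ x ∈ D i, x ∈ H B E t i) :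
    ∀ k, H B D s k ≤ H B E t k := by
  intro k
  refine (AddSubgroup.closure_le _).mpr (Set.iUnion_subset fun m => ?_)
  induction m generalizing k with
  | zero => exact fun x hx => h k hx.1 x hx.2
  | succ m ih =>
    rintro _ ⟨i, j, x, y, hx, hy, rfl, rfl⟩
    refine closure_bracket_mem (fun u hu v hv => ?_) (h i hx.1 x hx.2) (ih j hy)
    obtain ⟨a, ha⟩ := Set.mem_iUnion.mp hu
    obtain ⟨b, hb⟩ := Set.mem_iUnion.mp hv
    exact AddSubgroup.closure_mono (Set.subset_iUnion _ (a + b + 1)) (bracket_word hB _ a b i j u v ha hb)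

variable [hp : Fact p.Prime]

/-- Kreknin's induction. -/
theorem kreknin (hB : IsLie B) : ∀ (s : ℕ), s ≤ p - 1 → ∀ (D : ZMod p → AddSubgroup L),
    IsGrad B D → ∀ k, DS B D (2 ^ s - 1) k ≤ H B D s k := by
  haveI : NeZero p := ⟨hp.out.ne_zero⟩
  intro s
  induction s with
  | zero =>
    intro _ D hD k x hx
    rcases eq_or_ne k 0 with rfl | hk
    · rw [show DS B D (2 ^ 0 - 1) 0 = D 0 from rfl, hD.zero, AddSubgroup.mem_bot] at hx
      rw [hx]; exact zero_mem _
    · refine AddSubgroup.subset_closure (Set.mem_iUnion.mpr ⟨0, ?_, hx⟩)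
      exact Nat.pos_of_ne_zero fun h => hk ((ZMod.val_eq_zero k).mp h)
  | succ s ih =>
    intro hs D hD
    set t : ZMod p := ((s + 1 : ℕ) : ZMod p) with ht
    have htv : t.val = s + 1 := ZMod.val_natCast_of_lt (by omega)
    -- the degree `s + 1` part of the next derived term
    have claim : ∀ x ∈ DS B D (2 ^ s) t, x ∈ H B D (s + 1) t := by
      intro x hx
      rw [show 2 ^ s = (2 ^ s - 1) + 1 from (Nat.sub_add_cancel Nat.one_le_two_pow).symm] at hx
      refine (AddSubgroup.closure_le _).mpr ?_ hx
      rintro _ ⟨a, b, u, v, hu, hv, hab, rfl⟩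
      refine closure_bracket_mem (fun u' hu' v' hv' => ?_)
        (ih (by omega) D hD a hu) (ih (by omega) D hD b hv)
      obtain ⟨m₁, h₁⟩ := Set.mem_iUnion.mp hu'
      obtain ⟨m₂, h₂⟩ := Set.mem_iUnion.mp hv'
      refine (AddSubgroup.closure_le _).mpr ?_ (bracket_word hB _ m₁ m₂ a b u' v' h₁ h₂)
      rintro _ ⟨i, j, y, z, ⟨hi, hy⟩, hz, hij, rfl⟩
      rw [hab] at hij
      have hzD : z ∈ D j := word_mem hD (fun _ _ h => h.2) _ j hz
      rcases eq_or_ne i t with rfl | hit
      · have hj : j = 0 := by simpa using hij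
        rw [hj, hD.zero, AddSubgroup.mem_bot] at hzD
        rw [hzD, map_zero]
        exact zero_mem _
      have hi' : s + 1 < i.val := by
        have : i.val ≠ s + 1 := fun h => hit (ZMod.val_injective p (h.trans htv.symm))
        omega
      have hj' : s + 1 < j.val := by
        have hval := ZMod.val_add i j
        rw [hij, htv] at hval
        have h1 := ZMod.val_lt i
        have h2 := ZMod.val_lt j
        rcases Nat.lt_or_ge (i.val + j.val) p with h | h
        · rw [Nat.mod_eq_of_lt h] at hval; omega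
        · rw [Nat.mod_eq_sub_mod h, Nat.mod_eq_of_lt (by omega)] at hval; omega
      exact AddSubgroup.subset_closure (Set.mem_iUnion.mpr
        ⟨1, i, j, y, z, ⟨hi', hy⟩, ⟨hj', hzD⟩, hij, rfl⟩)
    have hstep : ∀ k, H B (DS B D (2 ^ s)) s k ≤ H B D (s + 1) k := by
      refine H_mono hB fun i hi x hx => ?_
      rcases eq_or_ne i t with rfl | hit
      · exact claim x hx
      · refine AddSubgroup.subset_closure (Set.mem_iUnion.mpr ⟨0, ?_, DS_le hD _ i hx⟩)
        have : i.val ≠ s + 1 := fun h => hit (ZMod.val_injective p (h.trans htv.symm))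
        omega
    intro k
    have h := ih (by omega) (DS B D (2 ^ s)) (DS_isGrad hD _) k
    rw [DS_add] at h
    rw [show 2 ^ (s + 1) - 1 = 2 ^ s + (2 ^ s - 1) by
      have := Nat.one_le_two_pow (n := s); rw [pow_succ]; omega]
    exact h.trans (hstep k)

theorem DS_eq_bot (hB : IsLie B) {D : ZMod p → AddSubgroup L} (hD : IsGrad B D) (k : ZMod p) :
    DS B D (2 ^ (p - 1) - 1) k = ⊥ := by
  haveI : NeZero p := ⟨hp.out.ne_zero⟩
  have hempty : ∀ m i, W B (fun i => {x | p - 1 < i.val ∧ x ∈ D i}) m i = ∅ := by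
    intro m
    induction m with
    | zero =>
      intro i
      refine Set.eq_empty_iff_forall_notMem.mpr fun x hx => ?_
      have := ZMod.val_lt i
      have h := hx.1
      omega
    | succ m ih =>
      intro i
      refine Set.eq_empty_iff_forall_notMem.mpr ?_
      rintro _ ⟨a, b, x, y, -, hy, -, rfl⟩
      rw [ih b] at hy
      exact hy
  refine le_bot_iff.mp ((kreknin hB (p - 1) le_rfl D hD k).trans ?_)
  exact (AddSubgroup.closure_le _).mpr (Set.iUnion_subset fun m => by rw [hempty m k]; exact Set.empty_subset _)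

/-- A weighted homogeneous operator. -/
structure Item (L : Type*) (p : ℕ) where
  /-- one less than the weight -/
  w : ℕ
  /-- the degree -/
  e : ZMod p
  /-- the element -/
  x : L

/-- Apply a list of operators. -/
def app (B : L →+ L →+ L) (l : List (Item L p)) (a : L) : L := l.foldr (fun t v => B t.x v) a

/-- The sum of the degrees. -/
def deg (l : List (Item L p)) : ZMod p := (l.map Item.e).sum

/-- The total weight. -/
def wgt (l : List (Item L p)) : ℕ := (l.map fun t => t.w + 1).sum

/-- Items lying in the graded words. -/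
def Valid (B : L →+ L →+ L) (D : ZMod p → AddSubgroup L) (l : List (Item L p)) : Prop :=
  ∀ t ∈ l, t.x ∈ AddSubgroup.closure (W B (fun i => (D i : Set L)) t.w t.e)

omit hp in
theorem app_sub (l : List (Item L p)) (a b : L) : app B l (a - b) = app B l a - app B l b := by
  induction l with
  | nil => rfl
  | cons t l ih => simp only [app, List.foldr_cons] at ih ⊢; rw [ih, map_sub]

omit hp in
theorem app_append (l l' : List (Item L p)) (a : L) : app B (l ++ l') a = app B l (app B l' a) :=
  List.foldr_append ..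

omit hp in
theorem item_mem {D : ZMod p → AddSubgroup L} (hD : IsGrad B D) {t : Item L p}
    (ht : t.x ∈ AddSubgroup.closure (W B (fun i => (D i : Set L)) t.w t.e)) : t.x ∈ D t.e :=
  (AddSubgroup.closure_le _).mpr (word_mem hD (fun _ => subset_rfl) _ _) ht

theorem app_mem (hB : IsLie B) {D : ZMod p → AddSubgroup L} (hD : IsGrad B D) (n : ℕ) :
    ∀ (l : List (Item L p)), Valid B D l → ∀ {d : ZMod p} {a : L}, a ∈ DS B D n d →
      app B l a ∈ DS B D n (deg l + d) := by
  intro l
  induction l with
  | nil => intro _ d a ha; simpa [app, deg] using ha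
  | cons t l ih =>
    intro hl d a ha
    have h := ih (fun u hu => hl u (List.mem_cons_of_mem _ hu)) ha
    have := DS_ideal hB hD n (item_mem hD (hl t List.mem_cons_self)) h
    simpa [app, deg, add_assoc] using this

/-- Subset sums of at least `p - 1` nonzero residues cover everything. -/
theorem exists_sublist_sum (l : List (Item L p)) (hl : ∀ t ∈ l, t.e ≠ 0) :
    ∃ S : Finset (ZMod p), (min p (l.length + 1) ≤ S.card) ∧
      ∀ r ∈ S, ∃ l₁ l₂, l.Perm (l₁ ++ l₂) ∧ deg l₂ = r := by
  classical
  haveI : NeZero p := ⟨hp.out.ne_zero⟩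
  induction l with
  | nil =>
    refine ⟨{0}, by simp, fun r hr => ⟨[], [], List.Perm.refl _, ?_⟩⟩
    rw [Finset.mem_singleton.mp hr]
    rfl
  | cons t l ih =>
    obtain ⟨S, hS, hex⟩ := ih (fun u hu => hl u (List.mem_cons_of_mem _ hu))
    refine ⟨S ∪ S.image (t.e + ·), ?_, fun r hr => ?_⟩
    · by_cases hsub : S.image (t.e + ·) ⊆ S
      · -- invariant under translation, so everything
        have hne : S.Nonempty := Finset.card_pos.mp (lt_of_lt_of_le
          (lt_min hp.out.pos (Nat.succ_pos _)) hS)
        obtain ⟨r₀, hr₀⟩ := hne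
        have hall : ∀ m : ℕ, (m : ZMod p) * t.e + r₀ ∈ S := by
          intro m
          induction m with
          | zero => simpa using hr₀
          | succ m ihm =>
            refine hsub (Finset.mem_image.mpr ⟨_, ihm, ?_⟩)
            push_cast; ring
        have huniv : ∀ r, r ∈ S := fun r => by
          have he : t.e ≠ 0 := hl t List.mem_cons_self
          have := hall (((r - r₀) / t.e).val)
          rwa [ZMod.natCast_zmod_val, div_mul_cancel₀ _ he, sub_add_cancel] at this
        rw [show S ∪ S.image (t.e + ·) = Finset.univ from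
          Finset.eq_univ_of_forall fun r => Finset.mem_union_left _ (huniv r)]
        rw [Finset.card_univ, ZMod.card]
        exact min_le_left _ _
      · have hlt : S ⊂ S ∪ S.image (t.e + ·) :=
          Finset.ssubset_iff_subset_ne.mpr ⟨Finset.subset_union_left, fun h => hsub
            (fun r hr => h.symm ▸ Finset.mem_union_right _ hr)⟩
        have := Finset.card_lt_card hlt
        simp only [List.length_cons]
        omega
    · rcases Finset.mem_union.mp hr with h | h
      · obtain ⟨l₁, l₂, hp', hd⟩ := hex r h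
        exact ⟨t :: l₁, l₂, hp'.cons t, hd⟩
      · obtain ⟨r', hr', rfl⟩ := Finset.mem_image.mp h
        obtain ⟨l₁, l₂, hp', hd⟩ := hex r' hr'
        exact ⟨l₁, t :: l₂, (hp'.cons t).trans List.perm_middle.symm, by simp [deg] at hd ⊢; rw [hd]⟩

/-- Long products of operators send the `n`-th derived term into the next one. -/
theorem app_mem_succ (hB : IsLie B) {D : ZMod p → AddSubgroup L} (hD : IsGrad B D) (n c : ℕ)
    (hW : ∀ k, W B (fun i => (D i : Set L)) c k ⊆ DS B D n k) :
    ∀ (N : ℕ) (l : List (Item L p)), l.length = N → Valid B D l → (p - 2) * c + 1 ≤ wgt l →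
      ∀ {d : ZMod p} {a : L}, a ∈ DS B D n d → app B l a ∈ DS B D (n + 1) (deg l + d) := by
  classical
  haveI : NeZero p := ⟨hp.out.ne_zero⟩
  have hWge : ∀ w, c ≤ w → ∀ k, W B (fun i => (D i : Set L)) w k ⊆ DS B D n k := by
    intro w hw
    induction w, hw using Nat.le_induction with
    | base => exact hW
    | succ w _ ih =>
      rintro _ _ ⟨i, j, x, y, hx, hy, rfl, rfl⟩
      exact DS_ideal hB hD n hx (ih j hy)
  intro N
  induction N using Nat.strong_induction_on with
  | _ N ih =>
  intro l hlen hval hw d a ha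
  -- a heavy operator
  by_cases hheavy : ∃ t ∈ l, c ≤ t.w
  · obtain ⟨t, ht, hct⟩ := hheavy
    obtain ⟨l₁, l₂, rfl⟩ := List.append_of_mem ht
    have h2 := app_mem hB hD n l₂ (fun u hu => hval u (by simp [hu])) ha
    have htn : t.x ∈ DS B D n t.e :=
      (AddSubgroup.closure_le _).mpr (hWge t.w hct t.e) (hval t ht)
    have h3 : B t.x (app B l₂ a) ∈ DS B D (n + 1) (t.e + (deg l₂ + d)) :=
      AddSubgroup.subset_closure ⟨_, _, _, _, htn, h2, rfl, rfl⟩
    have h4 := app_mem hB hD (n + 1) l₁ (fun u hu => hval u (by simp [hu])) h3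
    rw [app_append, show deg (l₁ ++ t :: l₂) + d = deg l₁ + (t.e + (deg l₂ + d)) by
      simp [deg, add_assoc]]
    exact h4
  push Not at hheavy
  -- reordering does not matter
  have hperm : ∀ l' l'' : List (Item L p), l'.Perm l'' → ∀ pre : List (Item L p),
      (pre ++ l').Perm l →
      app B (pre ++ l') a - app B (pre ++ l'') a ∈ DS B D (n + 1) (deg l + d) := by
    intro l' l'' hp'
    induction hp' with
    | nil => intro pre _; rw [sub_self]; exact zero_mem _
    | cons u hp'' ihp =>
      intro pre hpre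
      have := ihp (pre ++ [u]) (by simpa using hpre)
      simpa using this
    | swap u v l₀ =>
      intro pre hpre
      have hmem : ∀ q, q ∈ pre ∨ q = u ∨ q = v ∨ q ∈ l₀ → q ∈ l := fun q hq => hpre.subset (by
        simp only [List.mem_append, List.mem_cons]
        tauto)
      have hbr : B v.x u.x ∈
          AddSubgroup.closure (W B (fun i => (D i : Set L)) (v.w + u.w + 1) (v.e + u.e)) :=
        closure_bracket_mem (B := B)
        (fun x hx y hy => bracket_word hB (fun i => (D i : Set L)) v.w u.w v.e u.e x y hx hy)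
        (hval v (hmem v (by simp))) (hval u (hmem u (by simp)))
      set m : Item L p := ⟨v.w + u.w + 1, v.e + u.e, B v.x u.x⟩ with hm
      have hjac : app B (pre ++ v :: u :: l₀) a - app B (pre ++ u :: v :: l₀) a =
          app B (pre ++ m :: l₀) a := by
        rw [app_append, app_append, app_append, ← app_sub]
        congr 1
        simp only [app, List.foldr_cons]
        rw [hB.jacobi v.x u.x]
        abel
      rw [hjac]
      have hlen' : (pre ++ m :: l₀).length < N := by
        rw [← hlen, ← hpre.length_eq]; simp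
      have hval' : Valid B D (pre ++ m :: l₀) := by
        intro q hq
        simp only [List.mem_append, List.mem_cons] at hq
        rcases hq with h | rfl | h
        · exact hval q (hmem q (Or.inl h))
        · exact hbr
        · exact hval q (hmem q (Or.inr (Or.inr (Or.inr h))))
      have hw' : wgt (pre ++ m :: l₀) = wgt l := by
        rw [wgt, wgt, ← ((hpre.map fun t => t.w + 1).sum_eq)]
        simp [hm]
        omega
      have hd' : deg (pre ++ m :: l₀) = deg l := by
        rw [deg, deg, ← ((hpre.map Item.e).sum_eq)]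
        simp [hm]
        abel
      have := ih _ hlen' (pre ++ m :: l₀) rfl hval' (hw' ▸ hw) ha
      rwa [hd'] at this
    | trans h₁ _ ih₁ ih₂ =>
      intro pre hpre
      have := AddSubgroup.add_mem _ (ih₁ pre hpre) (ih₂ pre ((h₁.symm.append_left pre).trans hpre))
      rwa [sub_add_sub_cancel] at this
  -- zero degree operators vanish
  by_cases hzero : ∃ t ∈ l, t.e = 0
  · obtain ⟨t, ht, hte⟩ := hzero
    obtain ⟨l₁, l₂, rfl⟩ := List.append_of_mem ht
    have hx : t.x = 0 := by
      have h := item_mem hD (hval t ht)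
      rwa [hte, hD.zero, AddSubgroup.mem_bot] at h
    have hzero' : app B (l₁ ++ t :: l₂) a = app B l₁ (0 : L) := by
      rw [app_append]
      show app B l₁ (B t.x _) = _
      rw [hx, map_zero, AddMonoidHom.zero_apply]
    rw [hzero', show app B l₁ (0 : L) = 0 by simpa using app_sub (B := B) l₁ 0 0]
    exact zero_mem _
  push Not at hzero
  -- many factors
  have hk : p - 1 ≤ l.length := by
    have hle : ∀ l' : List (Item L p), (∀ t ∈ l', t.w < c) → wgt l' ≤ l'.length * c := by
      intro l'
      induction l' with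
      | nil => intro _; simp [wgt]
      | cons u l' ihl =>
        intro h
        have := ihl (fun q hq => h q (List.mem_cons_of_mem _ hq))
        have := h u List.mem_cons_self
        simp only [wgt, List.map_cons, List.sum_cons, List.length_cons, Nat.succ_mul] at *
        omega
    have h1 := (hle l hheavy)
    by_contra hlt
    push Not at hlt
    have h2 : l.length * c ≤ (p - 2) * c := Nat.mul_le_mul_right c (by omega)
    omega
  obtain ⟨S, hS, hex⟩ := exists_sublist_sum l hzero
  have hfull : S = Finset.univ := Finset.eq_univ_of_card S (by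
    have h1 := Finset.card_le_univ S
    rw [ZMod.card] at h1 ⊢
    have := hp.out.two_le
    omega)
  obtain ⟨l₁, l₂, hp', hd⟩ := hex (-d) (hfull ▸ Finset.mem_univ _)
  have h0 : app B (l₁ ++ l₂) a = 0 := by
    have h2 := app_mem hB hD n l₂ (fun u hu => hval u (hp'.symm.subset (by simp [hu]))) ha
    rw [hd, neg_add_cancel, (DS_isGrad hD n).zero, AddSubgroup.mem_bot] at h2
    rw [app_append, h2]
    simpa using app_sub (B := B) l₁ 0 0
  have := hperm l (l₁ ++ l₂) hp' [] (List.Perm.refl _)
  simpa [h0] using this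

/-- Kostrikin's class bound in terms of the derived length. -/
theorem word_mem_DS (hB : IsLie B) {D : ZMod p → AddSubgroup L} (hD : IsGrad B D) :
    ∀ (n : ℕ) (k : ZMod p), W B (fun i => (D i : Set L))
      (∑ i ∈ Finset.range n, (p - 1) ^ i) k ⊆ DS B D n k := by
  intro n
  induction n with
  | zero => intro k; simp [W, DS]
  | succ n ih =>
    set c := ∑ i ∈ Finset.range n, (p - 1) ^ i with hc
    intro k x hx
    have hsum : ∑ i ∈ Finset.range (n + 1), (p - 1) ^ i = ((p - 2) * c + 1) + c := by
      rw [geom_sum_succ, ← hc]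
      have h2 := hp.out.two_le
      obtain ⟨q, rfl⟩ : ∃ q, p = q + 2 := ⟨p - 2, by omega⟩
      simp only [Nat.add_sub_cancel, show q + 2 - 1 = q + 1 from rfl]
      ring
    rw [hsum] at hx
    have key : ∀ (r : ℕ) (k : ZMod p) (x : L), x ∈ W B (fun i => (D i : Set L)) (r + c) k →
        ∃ (l : List (Item L p)) (d : ZMod p) (a : L), Valid B D l ∧ wgt l = r ∧
          a ∈ W B (fun i => (D i : Set L)) c d ∧ app B l a = x ∧ deg l + d = k := by
      intro r
      induction r with
      | zero =>
        intro k x hx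
        rw [Nat.zero_add] at hx
        exact ⟨[], k, x, fun t ht => absurd ht (List.not_mem_nil), rfl, hx, rfl, zero_add k⟩
      | succ r ihr =>
        intro k x hx
        rw [Nat.succ_add] at hx
        obtain ⟨i, j, u, v, hu, hv, rfl, rfl⟩ := hx
        obtain ⟨l, d, a, hl, hlw, ha, rfl, rfl⟩ := ihr j v hv
        refine ⟨⟨0, i, u⟩ :: l, d, a, ?_, ?_, ha, rfl, ?_⟩
        · intro q hq
          rcases List.mem_cons.mp hq with rfl | h
          · exact AddSubgroup.subset_closure hu
          · exact hl q h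
        · simp [wgt] at hlw ⊢
          omega
        · simp [deg, add_assoc]
    obtain ⟨l, d, a, hl, hlw, ha, rfl, rfl⟩ := key _ k x hx
    exact app_mem_succ hB hD n c ih l.length l rfl hl hlw.ge (ih d ha)

/-- Words longer than the Higman–Kreknin–Kostrikin bound vanish. -/
theorem word_eq_zero (hB : IsLie B) {D : ZMod p → AddSubgroup L} (hD : IsGrad B D) (k : ZMod p)
    {x : L} (hx : x ∈ W B (fun i => (D i : Set L))
      (∑ i ∈ Finset.range (2 ^ (p - 1) - 1), (p - 1) ^ i) k) : x = 0 := by
  have := word_mem_DS hB hD _ k hx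
  rw [DS_eq_bot hB hD k] at this
  exact this

/-- The case `p = 3`: words with two brackets vanish. -/
theorem word_two_eq_zero (hB : IsLie B) {D : ZMod 3 → AddSubgroup L} (hD : IsGrad B D) (k : ZMod 3)
    {x : L} (hx : x ∈ W B (fun i => (D i : Set L)) 2 k) : x = 0 := by
  obtain ⟨a, _, u, _, hu, ⟨b, c, v, w, hv, hw, rfl, rfl⟩, -, rfl⟩ := hx
  have hz : ∀ {i : ZMod 3} {y : L}, y ∈ D i → i = 0 → y = 0 := fun hy hi => by
    rw [hi, hD.zero] at hy
    exact hy
  have hcases : ∀ a b c : ZMod 3, a = 0 ∨ b = 0 ∨ c = 0 ∨ b + c = 0 ∨ a + (b + c) = 0 ∨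
      (a + b = 0 ∧ a + c = 0) := by decide
  rcases hcases a b c with h | h | h | h | h | ⟨h, h'⟩
  · rw [hz hu h]; simp
  · rw [hz hv h]; simp
  · rw [hz hw h]; simp
  · rw [hz (hD.mul_mem hv hw) h]; simp
  · exact hz (hD.mul_mem hu (hD.mul_mem hv hw)) h
  · rw [hB.jacobi, hz (hD.mul_mem hu hv) h, hz (hD.mul_mem hu hw) h']; simp

end Cfsg.Agent.FG72.LieGrad
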