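import Mathlib
import Cfsg.Agent.FG38.PolyMap
import Cfsg.Agent.FG72.Lie.Kreknin

/-!
The Lie ring associated with the lower central series of a group.
-/

set_option autoImplicit false

namespace Cfsg.Agent.FG72.Assoc

open Subgroup
open scoped commutatorElement DirectSum

variable {G : Type*} [Group G]

/-- The terms of the lower central series. -/
abbrev gam (G : Type*) [Group G] (w : ℕ) : Subgroup G := (⊤ : Subgroup G).lowerCentralSeries w

theorem comm_mem {i j : ℕ} {a b : G} (ha : a ∈ gam G i) (hb : b ∈ gam G j) :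
    ⁅a, b⁆ ∈ gam G (i + j + 1) :=
  FG38.lcs_commutator_le i j (commutator_mem_commutator ha hb)

theorem gam_le {i j : ℕ} (h : i ≤ j) : gam G j ≤ gam G i :=
  Subgroup.lowerCentralSeries_antitone _ h

theorem conj_comm_mem {i : ℕ} (x : G) {a : G} (ha : a ∈ gam G i) : ⁅x, a⁆ ∈ gam G (i + 1) := by
  simpa using comm_mem (i := 0) (show x ∈ gam G 0 from mem_top x) ha

/-- A graded piece. -/
abbrev Gr (G : Type*) [Group G] (w : ℕ) : Type _ := gam G w ⧸ (gam G (w + 1)).subgroupOf (gam G w)

instance gradedPieceCommGroup (w : ℕ) : CommGroup (Gr G w) :=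
  { (inferInstance : Group (Gr G w)) with
    mul_comm := by
      intro a b
      induction a using QuotientGroup.induction_on with
      | H a =>
        induction b using QuotientGroup.induction_on with
        | H b =>
          rw [← QuotientGroup.mk_mul, ← QuotientGroup.mk_mul, QuotientGroup.eq, mem_subgroupOf]
          have h : ⁅(b : G)⁻¹, (a : G)⁻¹⁆ ∈ gam G (w + 1) :=
            gam_le (show w + 1 ≤ w + w + 1 by omega) (comm_mem (inv_mem b.2) (inv_mem a.2))
          simpa [commutatorElement_def, mul_assoc] using h }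

/-- The associated Lie ring. -/
abbrev LieRingOf (G : Type*) [Group G] : Type _ := ⨁ w : ℕ, Additive (Gr G w)

open Classical in
/-- The class of an element in a given piece. -/
noncomputable def ι (w : ℕ) (g : G) : LieRingOf G :=
  if h : g ∈ gam G w then
    DirectSum.of (fun w => Additive (Gr G w)) w (Additive.ofMul (QuotientGroup.mk ⟨g, h⟩))
  else 0

theorem ι_of_mem {w : ℕ} {g : G} (h : g ∈ gam G w) :
    ι w g = DirectSum.of (fun w => Additive (Gr G w)) w (Additive.ofMul (QuotientGroup.mk ⟨g, h⟩)) := by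
  rw [ι, dif_pos h]

theorem ι_mul {w : ℕ} {g h : G} (hg : g ∈ gam G w) (hh : h ∈ gam G w) :
    ι w (g * h) = ι w g + ι w h := by
  rw [ι_of_mem hg, ι_of_mem hh, ι_of_mem (mul_mem hg hh), ← map_add]
  rfl

theorem ι_eq_zero {w : ℕ} {g : G} (h : g ∈ gam G (w + 1)) : ι w g = 0 := by
  rw [ι_of_mem (gam_le w.le_succ h), (QuotientGroup.eq_one_iff _).mpr (mem_subgroupOf.mpr h)]
  exact map_zero _

theorem ι_one (w : ℕ) : ι w (1 : G) = 0 := ι_eq_zero (one_mem _)

theorem mem_of_ι_eq_zero {w : ℕ} {g : G} (hg : g ∈ gam G w) (h : ι w g = 0) :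
    g ∈ gam G (w + 1) := by
  rw [ι_of_mem hg] at h
  have h2 := DirectSum.of_injective w (h.trans (map_zero _).symm)
  exact mem_subgroupOf.mp ((QuotientGroup.eq_one_iff _).mp h2)

theorem ι_inv {w : ℕ} {g : G} (hg : g ∈ gam G w) : ι w g⁻¹ = -ι w g := by
  rw [eq_neg_iff_add_eq_zero, ← ι_mul (inv_mem hg) hg, inv_mul_cancel, ι_one]

theorem ι_conj {w : ℕ} {g : G} (x : G) (hg : g ∈ gam G w) : ι w (x * g * x⁻¹) = ι w g := by
  have h := conj_comm_mem x hg
  rw [show x * g * x⁻¹ = ⁅x, g⁆ * g by simp [commutatorElement_def],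
    ι_mul (gam_le w.le_succ h) hg, ι_eq_zero h, zero_add]

theorem gr_induction {P : LieRingOf G → Prop} (h0 : P 0) (hadd : ∀ x y, P x → P y → P (x + y))
    (hι : ∀ w g, g ∈ gam G w → P (ι w g)) (x : LieRingOf G) : P x := by
  induction x using DirectSum.induction_on with
  | zero => exact h0
  | add x y hx hy => exact hadd x y hx hy
  | of w a =>
    obtain ⟨⟨g, hg⟩, hga⟩ := QuotientGroup.mk_surjective (Additive.toMul a)
    have := hι w g hg
    rw [ι_of_mem hg, hga] at this
    exact this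

theorem gr_hom_ext {M : Type*} [AddCommMonoid M] {f f' : LieRingOf G →+ M}
    (h : ∀ w g, g ∈ gam G w → f (ι w g) = f' (ι w g)) : f = f' := by
  refine AddMonoidHom.ext fun x => ?_
  induction x using gr_induction with
  | h0 => simp
  | hadd x y hx hy => simp [hx, hy]
  | hι w g hg => exact h w g hg

/-- Lift a map killing the next term. -/
def liftGr {M : Type*} [AddCommGroup M] (w : ℕ) (f : gam G w →* Multiplicative M)
    (hf : ∀ x : gam G w, (x : G) ∈ gam G (w + 1) → f x = 1) : Additive (Gr G w) →+ M :=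
  MonoidHom.toAdditiveLeft (QuotientGroup.lift _ f fun x hx => hf x (mem_subgroupOf.mp hx))

/-- The map out of the whole ring given on each piece. -/
noncomputable def fromPieces {M : Type*} [AddCommGroup M]
    (f : ∀ w, gam G w →* Multiplicative M)
    (hf : ∀ w (x : gam G w), (x : G) ∈ gam G (w + 1) → f w x = 1) : LieRingOf G →+ M :=
  DirectSum.toAddMonoid fun w => liftGr w (f w) (hf w)

theorem fromPieces_ι {M : Type*} [AddCommGroup M]
    (f : ∀ w, gam G w →* Multiplicative M)
    (hf : ∀ w (x : gam G w), (x : G) ∈ gam G (w + 1) → f w x = 1) {w : ℕ} {g : G}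
    (hg : g ∈ gam G w) : fromPieces f hf (ι w g) = Multiplicative.toAdd (f w ⟨g, hg⟩) := by
  rw [ι_of_mem hg, fromPieces, DirectSum.toAddMonoid_of]
  rfl

theorem ι_comm_mul_right {i j : ℕ} {a b c : G} (ha : a ∈ gam G i) (hb : b ∈ gam G j)
    (hc : c ∈ gam G j) :
    ι (i + j + 1) ⁅a, b * c⁆ = ι (i + j + 1) ⁅a, b⁆ + ι (i + j + 1) ⁅a, c⁆ := by
  have h := comm_mem ha hc
  rw [show ⁅a, b * c⁆ = ⁅a, b⁆ * (b * ⁅a, c⁆ * b⁻¹) by simp [commutatorElement_def, mul_assoc],
    ι_mul (comm_mem ha hb) ((lowerCentralSeries_normal (⊤ : Subgroup G) _).conj_mem _ h b),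
    ι_conj b h]

theorem ι_comm_mul_left {i j : ℕ} {a b c : G} (ha : a ∈ gam G i) (hc : c ∈ gam G i)
    (hb : b ∈ gam G j) :
    ι (i + j + 1) ⁅a * c, b⁆ = ι (i + j + 1) ⁅a, b⁆ + ι (i + j + 1) ⁅c, b⁆ := by
  have h := comm_mem hc hb
  rw [show ⁅a * c, b⁆ = (a * ⁅c, b⁆ * a⁻¹) * ⁅a, b⁆ by simp [commutatorElement_def, mul_assoc],
    ι_mul ((lowerCentralSeries_normal (⊤ : Subgroup G) _).conj_mem _ h a) (comm_mem ha hb),
    ι_conj a h, add_comm]

/-- Bracket with an element of the piece `i`. -/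
noncomputable def adj (i : ℕ) (a : gam G i) : LieRingOf G →+ LieRingOf G :=
  fromPieces
    (fun j => MonoidHom.mk' (fun b : gam G j => Multiplicative.ofAdd (ι (i + j + 1) ⁅(a : G), (b : G)⁆))
      (fun b c => congrArg Multiplicative.ofAdd (ι_comm_mul_right a.2 b.2 c.2)))
    (fun j b hb => congrArg Multiplicative.ofAdd (ι_eq_zero (by
      rw [show i + j + 1 + 1 = i + (j + 1) + 1 by omega]
      exact comm_mem a.2 hb)))

theorem adj_ι {i j : ℕ} (a : gam G i) {b : G} (hb : b ∈ gam G j) :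
    adj i a (ι j b) = ι (i + j + 1) ⁅(a : G), b⁆ :=
  fromPieces_ι _ _ hb

/-- The bracket. -/
noncomputable def br (G : Type*) [Group G] : LieRingOf G →+ LieRingOf G →+ LieRingOf G :=
  fromPieces
    (fun i => MonoidHom.mk' (fun a : gam G i => Multiplicative.ofAdd (adj i a))
      (fun a c => congrArg Multiplicative.ofAdd (gr_hom_ext fun j b hb => by
        show adj i (a * c) (ι j b) = adj i a (ι j b) + adj i c (ι j b)
        rw [adj_ι _ hb, adj_ι _ hb, adj_ι _ hb]
        exact ι_comm_mul_left a.2 c.2 hb)))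
    (fun i a ha => congrArg Multiplicative.ofAdd (gr_hom_ext fun j b hb => by
      rw [adj_ι _ hb, AddMonoidHom.zero_apply]
      refine ι_eq_zero ?_
      rw [show i + j + 1 + 1 = (i + 1) + j + 1 by omega]
      exact comm_mem ha hb))

theorem br_ι {i j : ℕ} {a b : G} (ha : a ∈ gam G i) (hb : b ∈ gam G j) :
    br G (ι i a) (ι j b) = ι (i + j + 1) ⁅a, b⁆ := by
  exact (DFunLike.congr_fun (fromPieces_ι _ _ ha) (ι j b)).trans (adj_ι ⟨a, ha⟩ hb)

theorem br_anti (x y : LieRingOf G) : br G x y = -br G y x := by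
  induction x using gr_induction with
  | h0 => simp
  | hadd x x' hx hx' => simp [hx, hx', add_comm]
  | hι i a ha =>
    induction y using gr_induction with
    | h0 => simp
    | hadd y y' hy hy' => simp [hy, hy', add_comm]
    | hι j b hb =>
      rw [br_ι ha hb, br_ι hb ha, ← ι_inv (comm_mem hb ha), commutatorElement_inv,
        show j + i + 1 = i + j + 1 by omega]

theorem br_jacobi (x y z : LieRingOf G) :
    br G x (br G y z) = br G (br G x y) z + br G y (br G x z) := by
  induction x using gr_induction with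
  | h0 => simp
  | hadd x x' hx hx' => simp only [map_add, AddMonoidHom.add_apply, hx, hx']; abel
  | hι i a ha =>
    induction y using gr_induction with
    | h0 => simp
    | hadd y y' hy hy' => simp only [map_add, AddMonoidHom.add_apply, hy, hy']; abel
    | hι j b hb =>
      induction z using gr_induction with
      | h0 => simp
      | hadd z z' hz hz' => simp only [map_add, hz, hz']; abel
      | hι k c hc =>
        have e1 : br G (ι k c) (br G (ι i a) (ι j b)) = ι (i + j + k + 2) ⁅c, ⁅a, b⁆⁆ := by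
          rw [br_ι ha hb, br_ι hc (comm_mem ha hb), show k + (i + j + 1) + 1 = i + j + k + 2 by omega]
        have e2 : br G (ι j b) (br G (ι k c) (ι i a)) = ι (i + j + k + 2) ⁅b, ⁅c⁻¹, a⁻¹⁆⁆ := by
          have h : br G (ι k c⁻¹) (ι i a⁻¹) = br G (ι k c) (ι i a) := by
            rw [ι_inv hc, ι_inv ha]; simp
          rw [← h, br_ι (inv_mem hc) (inv_mem ha), br_ι hb (comm_mem (inv_mem hc) (inv_mem ha)),
            show j + (k + i + 1) + 1 = i + j + k + 2 by omega]
        have e3 : br G (ι i a) (br G (ι j b) (ι k c)) = ι (i + j + k + 2) ⁅a⁻¹, ⁅b⁻¹, c⁆⁆ := by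
          have h : br G (ι i a⁻¹) (br G (ι j b⁻¹) (ι k c)) = br G (ι i a) (br G (ι j b) (ι k c)) := by
            rw [ι_inv ha, ι_inv hb]; simp
          rw [← h, br_ι (inv_mem hb) hc, br_ι (inv_mem ha) (comm_mem (inv_mem hb) hc),
            show i + (j + k + 1) + 1 = i + j + k + 2 by omega]
        have hU : ⁅b, ⁅c⁻¹, a⁻¹⁆⁆ ∈ gam G (i + j + k + 2) := by
          rw [show i + j + k + 2 = j + (k + i + 1) + 1 by omega]
          exact comm_mem hb (comm_mem (inv_mem hc) (inv_mem ha))
        have hV : ⁅a⁻¹, ⁅b⁻¹, c⁆⁆ ∈ gam G (i + j + k + 2) := by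
          rw [show i + j + k + 2 = i + (j + k + 1) + 1 by omega]
          exact comm_mem (inv_mem ha) (comm_mem (inv_mem hb) hc)
        have hid : ⁅c, ⁅a, b⁆⁆ =
            a * ((c * ⁅b, ⁅c⁻¹, a⁻¹⁆⁆⁻¹ * c⁻¹) * (b * ⁅a⁻¹, ⁅b⁻¹, c⁆⁆⁻¹ * b⁻¹)) * a⁻¹ := by
          simp [commutatorElement_def, mul_assoc]
        have hn := lowerCentralSeries_normal (⊤ : Subgroup G) (i + j + k + 2)
        have hsum : br G (ι k c) (br G (ι i a) (ι j b)) =
            -br G (ι j b) (br G (ι k c) (ι i a)) + -br G (ι i a) (br G (ι j b) (ι k c)) := by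
          rw [e1, e2, e3, hid, ι_conj a (mul_mem (hn.conj_mem _ (inv_mem hU) c)
            (hn.conj_mem _ (inv_mem hV) b)), ι_mul (hn.conj_mem _ (inv_mem hU) c)
            (hn.conj_mem _ (inv_mem hV) b), ι_conj c (inv_mem hU), ι_conj b (inv_mem hV),
            ι_inv hU, ι_inv hV]
        rw [br_anti (br G (ι i a) (ι j b)) (ι k c), hsum, br_anti (ι k c) (ι i a), map_neg]
        abel

theorem br_isLie : LieGrad.IsLie (br G) := ⟨br_anti, br_jacobi⟩

theorem map_mem_gam (f : G →* G) {w : ℕ} {g : G} (hg : g ∈ gam G w) : f g ∈ gam G w := by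
  have h : f g ∈ (gam G w).map f := mem_map_of_mem _ hg
  rw [map_lowerCentralSeries] at h
  exact lowerCentralSeries_mono w le_top h

/-- The map induced by an endomorphism. -/
noncomputable def lmap (f : G →* G) : LieRingOf G →+ LieRingOf G :=
  fromPieces
    (fun w => MonoidHom.mk' (fun g : gam G w => Multiplicative.ofAdd (ι w (f (g : G))))
      (fun a b => congrArg Multiplicative.ofAdd
        (by rw [Subgroup.coe_mul, map_mul, ι_mul (map_mem_gam f a.2) (map_mem_gam f b.2)]; rfl)))
    (fun _ _ hx => congrArg Multiplicative.ofAdd (ι_eq_zero (map_mem_gam f hx)))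

theorem lmap_ι (f : G →* G) {w : ℕ} {g : G} (hg : g ∈ gam G w) :
    lmap f (ι w g) = ι w (f g) :=
  fromPieces_ι _ _ hg

theorem lmap_br (f : G →* G) (x y : LieRingOf G) :
    lmap f (br G x y) = br G (lmap f x) (lmap f y) := by
  induction x using gr_induction with
  | h0 => simp
  | hadd x x' hx hx' => simp [hx, hx']
  | hι i a ha =>
    induction y using gr_induction with
    | h0 => simp
    | hadd y y' hy hy' => simp [hy, hy']
    | hι j b hb =>
      rw [br_ι ha hb, lmap_ι f (comm_mem ha hb), lmap_ι f ha, lmap_ι f hb,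
        br_ι (map_mem_gam f ha) (map_mem_gam f hb), map_commutatorElement]

theorem lmap_iterate (f : G →* G) (n : ℕ) {w : ℕ} {g : G} (hg : g ∈ gam G w) :
    (lmap f)^[n] (ι w g) = ι w (f^[n] g) ∧ f^[n] g ∈ gam G w := by
  induction n with
  | zero => exact ⟨rfl, hg⟩
  | succ n ih =>
    rw [Function.iterate_succ_apply', Function.iterate_succ_apply', ih.1, lmap_ι f ih.2]
    exact ⟨rfl, map_mem_gam f ih.2⟩

theorem lmap_iterate_eq_self (f : G →* G) {n : ℕ} (h : ∀ g, f^[n] g = g) (x : LieRingOf G) :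
    (lmap f)^[n] x = x := by
  induction x using gr_induction with
  | h0 => exact iterate_map_zero _ n
  | hadd x y hx hy => rw [iterate_map_add, hx, hy]
  | hι w g hg => rw [(lmap_iterate f n hg).1, h]

theorem apply_lmap (f : G →* G) (x : LieRingOf G) (w : ℕ) :
    ∀ g : gam G w, x w = Additive.ofMul (QuotientGroup.mk g) →
      lmap f x w = Additive.ofMul (QuotientGroup.mk ⟨f (g : G), map_mem_gam f g.2⟩) := by
  intro g hx
  let φ : Gr G w →* Gr G w := QuotientGroup.lift _
    (MonoidHom.mk' (fun g : gam G w => (QuotientGroup.mk ⟨f (g : G), map_mem_gam f g.2⟩ : Gr G w))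
      (fun a b => by rw [← QuotientGroup.mk_mul]; congr 1; exact Subtype.ext (map_mul f (a : G) (b : G))))
    (fun a ha => (QuotientGroup.eq_one_iff _).mpr
      (mem_subgroupOf.mpr (map_mem_gam f (mem_subgroupOf.mp ha))))
  have hkey : ∀ y : LieRingOf G, lmap f y w = MonoidHom.toAdditive φ (y w) := by
    intro y
    induction y using gr_induction with
    | h0 => simp
    | hadd y y' hy hy' => simp [hy, hy']
    | hι v a ha =>
      rw [lmap_ι f ha, ι_of_mem (map_mem_gam f ha), ι_of_mem ha]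
      rcases eq_or_ne v w with rfl | hvw
      · rw [DirectSum.of_eq_same, DirectSum.of_eq_same]
        rfl
      · rw [DirectSum.of_eq_of_ne _ _ _ hvw.symm, DirectSum.of_eq_of_ne _ _ _ hvw.symm, map_zero]
  rw [hkey, hx]
  rfl

theorem eq_zero_of_lmap_eq [Finite G] (f : G →* G) (hf : ∀ g, f g = g → g = 1)
    (x : LieRingOf G) (hx : lmap f x = x) : x = 0 := by
  refine DirectSum.ext_component ℤ fun w => ?_
  show x w = 0
  obtain ⟨g, hg⟩ := QuotientGroup.mk_surjective (Additive.toMul (x w))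
  have hg' : x w = Additive.ofMul (QuotientGroup.mk g) := by rw [hg]; rfl
  have h2 := apply_lmap f x w g hg'
  rw [hx, hg', Additive.ofMul.apply_eq_iff_eq, QuotientGroup.eq, mem_subgroupOf] at h2
  simp only [Subgroup.coe_mul, Subgroup.coe_inv] at h2
  let φ : gam G (w + 1) → gam G (w + 1) :=
    fun h => ⟨(h : G)⁻¹ * f h, mul_mem (inv_mem h.2) (map_mem_gam f h.2)⟩
  have hinj : Function.Injective φ := by
    intro a b hab
    have h' : (a : G)⁻¹ * f a = (b : G)⁻¹ * f b := congrArg Subtype.val hab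
    refine Subtype.ext ?_
    have : f (a * (b : G)⁻¹) = a * (b : G)⁻¹ := by
      rw [map_mul, map_inv, mul_inv_eq_iff_eq_mul]
      calc f a = a * ((a : G)⁻¹ * f a) := by group
        _ = _ := by rw [h']; group
    exact mul_inv_eq_one.mp (hf _ this)
  obtain ⟨h, hh⟩ := Finite.surjective_of_injective hinj ⟨_, h2⟩
  have h' : (h : G)⁻¹ * f h = (g : G)⁻¹ * f g := congrArg Subtype.val hh
  have : f (g * (h : G)⁻¹) = g * (h : G)⁻¹ := by
    rw [map_mul, map_inv, mul_inv_eq_iff_eq_mul]
    calc f g = g * ((g : G)⁻¹ * f g) := by group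
      _ = _ := by rw [← h']; group
  rw [hg', (QuotientGroup.eq_one_iff g).mpr
    (mem_subgroupOf.mpr ((mul_inv_eq_one.mp (hf _ this)).symm ▸ h.2))]
  rfl

theorem card_nsmul_eq_zero [Finite G] (x : LieRingOf G) : Nat.card G • x = 0 := by
  induction x using gr_induction with
  | h0 => simp
  | hadd x y hx hy => rw [nsmul_add, hx, hy, add_zero]
  | hι w g hg =>
    have h : ∀ n, ι w (g ^ n) = n • ι w g := by
      intro n
      induction n with
      | zero => rw [pow_zero, ι_one, zero_nsmul]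
      | succ n ih => rw [pow_succ, ι_mul (pow_mem hg n) hg, ih, succ_nsmul]
    rw [← h, pow_card_eq_one', ι_one]

/-- Brackets of a given length in arbitrary elements. -/
def V {L : Type*} [AddCommGroup L] (B : L →+ L →+ L) : ℕ → Set L
  | 0 => Set.univ
  | n + 1 => {z | ∃ x y, y ∈ V B n ∧ B x y = z}

theorem ι_mem_closure_V (m : ℕ) :
    ∀ g ∈ gam G m, ι m g ∈ AddSubgroup.closure (V (br G) m) := by
  induction m with
  | zero => exact fun g _ => AddSubgroup.subset_closure trivial
  | succ m ih =>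
    intro g hg
    let S : Subgroup G :=
      { carrier := {g | g ∈ gam G (m + 1) ∧ ι (m + 1) g ∈ AddSubgroup.closure (V (br G) (m + 1))}
        one_mem' := ⟨one_mem _, by rw [ι_one]; exact zero_mem _⟩
        mul_mem' := fun ha hb => ⟨mul_mem ha.1 hb.1, by
          rw [ι_mul ha.1 hb.1]; exact add_mem ha.2 hb.2⟩
        inv_mem' := fun ha => ⟨inv_mem ha.1, by rw [ι_inv ha.1]; exact neg_mem ha.2⟩ }
    have hle : gam G (m + 1) ≤ S := by
      show ⁅gam G m, (⊤ : Subgroup G)⁆ ≤ S
      refine commutator_le.mpr fun y hy x _ => ?_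
      have hmem : ⁅y, x⁆ ∈ gam G (m + 1) := commutator_mem_commutator hy (mem_top x)
      refine ⟨hmem, ?_⟩
      have hxy : ι (m + 1) ⁅y, x⁆ = -br G (ι 0 x) (ι m y) := by
        rw [br_ι (mem_top x) hy, ← ι_inv (comm_mem (mem_top x) hy), commutatorElement_inv,
          Nat.zero_add]
      rw [hxy]
      refine neg_mem ?_
      refine (AddSubgroup.closure_le ((AddSubgroup.closure _).comap (br G (ι 0 x)))).mpr ?_ (ih y hy)
      exact fun v hv => AddSubgroup.subset_closure ⟨_, v, hv, rfl⟩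
    exact (hle hg).2

theorem gam_eq_bot_of_V [Group.IsNilpotent G] (m : ℕ) (h : ∀ x ∈ V (br G) m, x = 0) :
    gam G m = ⊥ := by
  have h0 : ∀ g ∈ gam G m, g ∈ gam G (m + 1) := fun g hg => mem_of_ι_eq_zero hg (by
    have h1 : ι m g ∈ (⊥ : AddSubgroup (LieRingOf G)) :=
      (AddSubgroup.closure_le _).mpr (fun x hx => h x hx) (ι_mem_closure_V m g hg)
    exact h1)
  have hk : ∀ k, gam G m ≤ gam G (m + k) := by
    intro k
    induction k with
    | zero => rfl
    | succ k ih =>
      have hle : gam G (m + 1) ≤ gam G (m + (k + 1)) := by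
        show ⁅gam G m, (⊤ : Subgroup G)⁆ ≤ ⁅gam G (m + k), (⊤ : Subgroup G)⁆
        exact commutator_mono ih le_rfl
      exact fun g hg => hle (h0 g hg)
  obtain ⟨c, hc⟩ := Subgroup.nilpotent_iff_lowerCentralSeries.mp ‹_›
  exact le_bot_iff.mp ((hk c).trans ((gam_le (Nat.le_add_left c m)).trans hc.le))

end Cfsg.Agent.FG72.Assoc
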