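import Mathlib
import Cfsg.Agent.FG72.Lie.Kreknin
import Cfsg.Agent.FG72.Lie.Assoc

/-!
Adjoining a primitive `p`-th root of unity to a Lie ring with an automorphism of order `p`,
and transferring the vanishing of graded brackets.
-/

set_option autoImplicit false

namespace Cfsg.Agent.FG72.Cyclo

variable {L : Type*} [AddCommGroup L] {p : ℕ}

/-- The constant functions. -/
def consts (L : Type*) [AddCommGroup L] (p : ℕ) : AddSubgroup (ZMod p → L) :=
  (AddMonoidHom.mk' (fun c : L => fun _ : ZMod p => c) (fun _ _ => rfl)).range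

theorem mem_consts {f : ZMod p → L} : f ∈ consts L p ↔ ∃ c, ∀ i, f i = c :=
  ⟨fun ⟨c, hc⟩ => ⟨c, fun i => (congrFun hc i).symm⟩,
    fun ⟨c, hc⟩ => ⟨c, funext fun i => (hc i).symm⟩⟩

/-- Functions modulo constants. -/
abbrev Ext (L : Type*) [AddCommGroup L] (p : ℕ) : Type _ := (ZMod p → L) ⧸ consts L p

variable [NeZero p] (B : L →+ L →+ L)

/-- Convolution. -/
def conv : (ZMod p → L) →+ (ZMod p → L) →+ (ZMod p → L) :=
  AddMonoidHom.mk' (fun f => AddMonoidHom.mk' (fun g k => ∑ a, B (f a) (g (k - a)))
      (fun g g' => funext fun k => by simp [Finset.sum_add_distrib]))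
    (fun f f' => AddMonoidHom.ext fun g => funext fun k => by simp [Finset.sum_add_distrib])

theorem conv_apply (f g : ZMod p → L) (k : ZMod p) :
    conv B f g k = ∑ a, B (f a) (g (k - a)) := rfl

theorem conv_mem_left {f : ZMod p → L} (hf : f ∈ consts L p) (g : ZMod p → L) :
    conv B f g ∈ consts L p := by
  obtain ⟨c, hc⟩ := mem_consts.mp hf
  refine mem_consts.mpr ⟨B c (∑ a, g a), fun k => ?_⟩
  rw [conv_apply, map_sum]
  exact Fintype.sum_equiv (Equiv.subLeft k) _ _ fun a => by simp [hc]

theorem conv_mem_right (f : ZMod p → L) {g : ZMod p → L} (hg : g ∈ consts L p) :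
    conv B f g ∈ consts L p := by
  obtain ⟨c, hc⟩ := mem_consts.mp hg
  refine mem_consts.mpr ⟨B (∑ a, f a) c, fun k => ?_⟩
  rw [conv_apply, map_sum, AddMonoidHom.finset_sum_apply]
  simp [hc]

/-- The bracket on the extension. -/
def extBr : Ext L p →+ Ext L p →+ Ext L p :=
  QuotientAddGroup.lift (consts L p)
    (AddMonoidHom.mk' (fun f => QuotientAddGroup.lift (consts L p)
        ((QuotientAddGroup.mk' (consts L p)).comp (conv B f))
        (fun g hg => (QuotientAddGroup.eq_zero_iff _).mpr (conv_mem_right B f hg)))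
      (fun f f' => AddMonoidHom.ext fun x => by
        induction x using QuotientAddGroup.induction_on with
        | H g => simp; rfl))
    (fun f hf => AddMonoidHom.ext fun x => by
      induction x using QuotientAddGroup.induction_on with
      | H g => exact (QuotientAddGroup.eq_zero_iff _).mpr (conv_mem_left B hf g))

theorem extBr_mk (f g : ZMod p → L) :
    extBr B (f : Ext L p) (g : Ext L p) = (conv B f g : Ext L p) := rfl

theorem extBr_isLie (hB : LieGrad.IsLie B) : LieGrad.IsLie (extBr B (p := p)) where
  anti := by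
    intro x y
    induction x using QuotientAddGroup.induction_on with
    | H f =>
      induction y using QuotientAddGroup.induction_on with
      | H g =>
        rw [extBr_mk, extBr_mk, ← QuotientAddGroup.mk_neg]
        refine congrArg _ (funext fun k => ?_)
        rw [Pi.neg_apply, conv_apply, conv_apply, ← Finset.sum_neg_distrib]
        refine Fintype.sum_equiv (Equiv.subLeft k) _ _ fun a => ?_
        simpa using hB.anti _ _
  jacobi := by
    intro x y z
    induction x using QuotientAddGroup.induction_on with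
    | H f =>
      induction y using QuotientAddGroup.induction_on with
      | H g =>
        induction z using QuotientAddGroup.induction_on with
        | H h =>
          simp only [extBr_mk, ← QuotientAddGroup.mk_add]
          refine congrArg _ (funext fun k => ?_)
          have e1 : conv B f (conv B g h) k =
              ∑ a, ∑ b, B (f a) (B (g b) (h (k - a - b))) :=
            Finset.sum_congr rfl fun a _ => by rw [conv_apply, map_sum]
          have e2 : conv B (conv B f g) h k =
              ∑ a, ∑ b, B (B (f a) (g b)) (h (k - a - b)) := by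
            rw [conv_apply]
            simp only [conv_apply, map_sum, AddMonoidHom.finset_sum_apply]
            rw [Finset.sum_comm]
            exact Finset.sum_congr rfl fun a _ =>
              Fintype.sum_equiv (Equiv.subRight a) _ _ fun c => by simp [sub_sub_sub_cancel_right]
          have e3 : conv B g (conv B f h) k =
              ∑ a, ∑ b, B (g b) (B (f a) (h (k - a - b))) := by
            rw [conv_apply]
            simp only [conv_apply, map_sum]
            rw [Finset.sum_comm]
            exact Finset.sum_congr rfl fun a _ => Finset.sum_congr rfl fun b _ => by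
              rw [sub_right_comm]
          rw [Pi.add_apply, e1, e2, e3, ← Finset.sum_add_distrib]
          exact Finset.sum_congr rfl fun a _ => by
            rw [← Finset.sum_add_distrib]
            exact Finset.sum_congr rfl fun b _ => hB.jacobi _ _ _

/-- Shift of a function. -/
def shift (k : ZMod p) : (ZMod p → L) →+ (ZMod p → L) :=
  AddMonoidHom.mk' (fun f i => f (i - k)) (fun _ _ => rfl)

theorem shift_apply (k : ZMod p) (f : ZMod p → L) (i : ZMod p) : shift k f i = f (i - k) := rfl

theorem conv_shift (a b : ZMod p) (f g : ZMod p → L) :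
    conv B (shift a f) (shift b g) = shift (a + b) (conv B f g) := by
  funext k
  simp only [conv_apply, shift_apply]
  exact Fintype.sum_equiv (Equiv.subRight a) _ _ fun c => by
    simp only [Equiv.subRight_apply]
    rw [show k - (a + b) - (c - a) = k - c - b by abel]

variable (A : L →+ L)

/-- Pointwise action. -/
def pw : (ZMod p → L) →+ (ZMod p → L) :=
  AddMonoidHom.mk' (fun f i => A (f i)) (fun f g => funext fun i => map_add A _ _)

theorem pw_apply (f : ZMod p → L) (i : ZMod p) : pw A f i = A (f i) := rfl

/-- Functions which are eigenvectors modulo constants. -/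
def eigPre (k : ZMod p) : AddSubgroup (ZMod p → L) :=
  (consts L p).comap (pw A - shift k)

/-- The eigenspaces. -/
def eig (k : ZMod p) : AddSubgroup (Ext L p) :=
  (eigPre A k).map (QuotientAddGroup.mk' (consts L p))

variable {B A}

theorem eig_isGrad (hA : ∀ x y, A (B x y) = B (A x) (A y)) (hfix : ∀ x, A x = x → x = 0) :
    LieGrad.IsGrad (extBr B) (eig A : ZMod p → AddSubgroup (Ext L p)) where
  zero := by
    rw [eq_bot_iff]
    rintro _ ⟨f, hf, rfl⟩
    obtain ⟨c, hc⟩ := mem_consts.mp (show ((pw A - shift 0 : (ZMod p → L) →+ (ZMod p → L))) f ∈ consts L p from hf)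
    simp only [AddMonoidHom.sub_apply, Pi.sub_apply, pw_apply, shift_apply, sub_zero] at hc
    rw [AddSubgroup.mem_bot]
    refine (QuotientAddGroup.eq_zero_iff _).mpr (mem_consts.mpr ⟨f 0, fun i => ?_⟩)
    refine sub_eq_zero.mp (hfix _ ?_)
    rw [map_sub, sub_eq_sub_iff_sub_eq_sub, hc, hc]
  mul_mem := by
    rintro a b _ _ ⟨f, hf, rfl⟩ ⟨g, hg, rfl⟩
    refine ⟨conv B f g, ?_, rfl⟩
    have hc : pw A (conv B f g) = conv B (pw A f) (pw A g) := by
      funext k
      simp [pw_apply, conv_apply, map_sum, hA]
    have key : (pw A - shift (a + b) : (ZMod p → L) →+ (ZMod p → L)) (conv B f g) =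
        conv B ((pw A - shift a : (ZMod p → L) →+ (ZMod p → L)) f) (pw A g) +
          conv B (shift a f) ((pw A - shift b : (ZMod p → L) →+ (ZMod p → L)) g) := by
      simp only [AddMonoidHom.sub_apply, map_sub, ← conv_shift, hc]
      abel
    show (pw A - shift (a + b) : (ZMod p → L) →+ (ZMod p → L)) (conv B f g) ∈ consts L p
    rw [key]
    exact add_mem (conv_mem_left B hf _) (conv_mem_right B _ hg)

/-- The embedding. -/
def del (L : Type*) [AddCommGroup L] (p : ℕ) [NeZero p] : L →+ Ext L p :=
  (QuotientAddGroup.mk' (consts L p)).comp (AddMonoidHom.single (fun _ : ZMod p => L) 0)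

theorem del_injective (hp : 2 ≤ p) : Function.Injective (del L p) := by
  haveI : Fact (1 < p) := ⟨hp⟩
  refine (injective_iff_map_eq_zero _).mpr fun x hx => ?_
  obtain ⟨c, hc⟩ := mem_consts.mp ((QuotientAddGroup.eq_zero_iff _).mp hx)
  have h0 := hc 0
  have h1 := hc 1
  simp at h0 h1
  exact h0.trans h1.symm

theorem extBr_del (x y : L) : extBr B (del L p x) (del L p y) = del L p (B x y) := by
  show ((conv B (Pi.single 0 x) (Pi.single 0 y) : ZMod p → L) : Ext L p) =
    ((Pi.single 0 (B x y) : ZMod p → L) : Ext L p)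
  refine congrArg _ (funext fun k => ?_)
  rw [conv_apply, Finset.sum_eq_single 0 (fun a _ ha => by simp [ha]) (by simp)]
  rcases eq_or_ne k 0 with rfl | hk
  · simp
  · simp [hk]

/-- Every element times `p` is a sum of eigenvectors. -/
theorem nsmul_mem_closure_eig [Fact p.Prime] (hper : ∀ x, A^[p] x = x) (f : ZMod p → L) :
    ((p • f : ZMod p → L) : Ext L p) ∈
      AddSubgroup.closure (⋃ k, ((eig A k : AddSubgroup (Ext L p)) : Set (Ext L p))) := by
  have hmod : ∀ (n : ℕ) (x : L), A^[n % p] x = A^[n] x := by
    intro n x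
    conv_rhs => rw [← Nat.mod_add_div n p, Function.iterate_add_apply, Function.iterate_mul]
    rw [Function.iterate_fixed (hper x) (n / p)]
  let P : ZMod p → (ZMod p → L) := fun k i => ∑ j : ZMod p, A^[j.val] (f (i + k * j))
  have hP : ∀ k, (P k : Ext L p) ∈ eig A k := by
    intro k
    refine ⟨P k, mem_consts.mpr ⟨0, fun i => ?_⟩, rfl⟩
    simp only [AddMonoidHom.sub_apply, Pi.sub_apply, pw_apply, shift_apply, P, map_sum]
    rw [sub_eq_zero]
    refine Fintype.sum_equiv (Equiv.addRight (1 : ZMod p)) _ _ fun j => ?_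
    simp only [Equiv.coe_addRight]
    rw [ZMod.val_add, hmod, show i - k + k * (j + 1) = i + k * j by ring, ZMod.val_one,
      Function.iterate_succ_apply']
  have hc : (p • f - ∑ k, P k) ∈ consts L p := by
    refine mem_consts.mpr ⟨-∑ j ∈ Finset.univ.erase (0 : ZMod p), A^[j.val] (∑ a, f a),
      fun i => ?_⟩
    simp only [Pi.sub_apply, Pi.smul_apply, Finset.sum_apply, P]
    rw [Finset.sum_comm, ← Finset.add_sum_erase _ _ (Finset.mem_univ (0 : ZMod p))]
    have h0 : ∑ k : ZMod p, A^[(0 : ZMod p).val] (f (i + k * 0)) = p • f i := by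
      simp [ZMod.card]
    rw [h0, sub_add_cancel_left, neg_inj]
    refine Finset.sum_congr rfl fun j hj => ?_
    have hA : ∀ (n : ℕ) (g : ZMod p → L), ∑ k, A^[n] (g k) = A^[n] (∑ k, g k) := by
      intro n g
      induction n with
      | zero => rfl
      | succ n ih => simp only [Function.iterate_succ_apply']; rw [← map_sum, ih]
    rw [hA]
    congr 1
    exact Fintype.sum_equiv ((Equiv.mulRight₀ j (Finset.ne_of_mem_erase hj)).trans
      (Equiv.addLeft i)) _ _ fun k => by simp
  have : ((p • f : ZMod p → L) : Ext L p) = ((∑ k, P k : ZMod p → L) : Ext L p) := by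
    refine (QuotientAddGroup.eq_iff_sub_mem).mpr ?_
    exact hc
  rw [this, QuotientAddGroup.mk_sum]
  exact sum_mem fun k _ => AddSubgroup.subset_closure (Set.mem_iUnion.mpr ⟨k, hP k⟩)

/-- Vanishing of graded brackets implies vanishing of all brackets. -/
theorem V_eq_zero [Fact p.Prime] (hA : ∀ x y, A (B x y) = B (A x) (A y))
    (hfix : ∀ x, A x = x → x = 0) (hper : ∀ x, A^[p] x = x) (htor : ∀ x : L, p • x = 0 → x = 0)
    (m : ℕ)
    (h : ∀ (D : ZMod p → AddSubgroup (Ext L p)), LieGrad.IsGrad (extBr B) D →
      ∀ k, ∀ x ∈ LieGrad.W (extBr B) (fun i => (D i : Set (Ext L p))) m k, x = 0)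
    {x : L} (hx : x ∈ Assoc.V B m) : x = 0 := by
  have key : ∀ (m : ℕ) (x : L), x ∈ Assoc.V B m → p ^ (m + 1) • del L p x ∈
      AddSubgroup.closure (⋃ k, LieGrad.W (extBr B) (fun i => ((eig A i : AddSubgroup (Ext L p)) : Set (Ext L p))) m k) := by
    have h1 : ∀ x : L, p • del L p x ∈
        AddSubgroup.closure (⋃ k, ((eig A k : AddSubgroup (Ext L p)) : Set (Ext L p))) := fun x =>
      nsmul_mem_closure_eig hper (Pi.single 0 x)
    intro m
    induction m with
    | zero => intro x _; rw [zero_add, pow_one]; exact h1 x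
    | succ m ih =>
      rintro _ ⟨u, v, hv, rfl⟩
      have h2 : p ^ (m + 1 + 1) • del L p (B u v) =
          extBr B (p • del L p u) (p ^ (m + 1) • del L p v) := by
        rw [map_nsmul (extBr B) p, map_nsmul _ (p ^ (m + 1)),
          show (p • extBr B (del L p u)) (del L p v) = p • extBr B (del L p u) (del L p v) from rfl,
          extBr_del, smul_smul, pow_succ]
      rw [h2]
      refine LieGrad.closure_bracket_mem ?_ (h1 u) (ih v hv)
      intro a ha b hb
      obtain ⟨i, hi⟩ := Set.mem_iUnion.mp ha
      obtain ⟨j, hj⟩ := Set.mem_iUnion.mp hb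
      exact AddSubgroup.subset_closure
        (Set.mem_iUnion.mpr ⟨i + j, i, j, a, b, hi, hj, rfl, rfl⟩)
  have hk := key m x hx
  have hbot : p ^ (m + 1) • del L p x ∈ (⊥ : AddSubgroup (Ext L p)) :=
    (AddSubgroup.closure_le _).mpr (Set.iUnion_subset fun k y hy =>
      h _ (eig_isGrad hA hfix) k y hy) hk
  rw [AddSubgroup.mem_bot, ← map_nsmul] at hbot
  have hx0 : p ^ (m + 1) • x = 0 :=
    del_injective (Nat.Prime.two_le Fact.out) (hbot.trans (map_zero _).symm)
  have hall : ∀ (n : ℕ) (y : L), p ^ n • y = 0 → y = 0 := by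
    intro n
    induction n with
    | zero => intro y hy; simpa using hy
    | succ n ihn => intro y hy; rw [pow_succ, ← smul_smul] at hy; exact htor y (ihn _ hy)
  exact hall _ x hx0

end Cfsg.Agent.FG72.Cyclo
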